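import Cfsg.Agent.H687.BR.CntPar
import Cfsg.Agent.H687.BR.SumE
import Cfsg.Agent.S2378

/-!
# S4791, `E₇(q)`, `ord_p(q) = 3`: the number `cnt P (G ⧸ P₇)` is `2` modulo `p` (helper710, for helper214)

* `cnt_modEq_index` : the Sylow `p`-subgroups abelian, `C_G(y) ≤ H` for a `p`-element `y`:
  `cnt P (G ⧸ H) ≡ |G : H|` modulo `p`;
* `cnt_P7` : the case of `E₇(q)`.
-/

set_option autoImplicit false
set_option linter.unusedSectionVars false

namespace Cfsg.Agent.H710.XZ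

open Cfsg Subgroup Cfsg.Agent.H145.BR Cfsg.Agent.H687.BR Cfsg.Lie
open Cfsg.Agent.H35.PoinNum (pr pr_cons pr_nil)
open Cfsg.Agent.H35.ExcIdx (hpE7)
open scoped Pointwise

universe u

/-- **the number `cnt` modulo `p`**, form with a subgroup -/
theorem cnt_modEq_index_sub {G : Type u} [Group G] [Finite G] {p : ℕ} [hp : Fact p.Prime]
    (hab : ∀ Q : Sylow p G, ∀ a ∈ (Q : Subgroup G), ∀ b ∈ (Q : Subgroup G), a * b = b * a) {H A : Subgroup G}
    (hA : IsPGroup p A) (hC : centralizer (A : Set G) ≤ H) (P : Sylow p G) :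
    cnt (P : Subgroup G) (G ⧸ H) ≡ H.index [MOD p] := by
  obtain ⟨Q, hQ⟩ := hA.exists_le_sylow
  have hQC : (Q : Subgroup G) ≤ centralizer (A : Set G) := by
    intro x hx
    rw [mem_centralizer_iff]
    intro y hy
    exact hab Q y (hQ hy) x hx
  have hQH := hQC.trans hC
  have hCQ : centralizer ((Q : Subgroup G) : Set G) ≤ H :=
    (centralizer_le (SetLike.coe_subset_coe.2 hQ)).trans hC
  rw [cnt_conj P Q]
  -- the relation is the equality
  have hrel : ∀ x z : {x : G ⧸ H // ∀ g ∈ (Q : Subgroup G), g • x = x},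
      (∃ c ∈ centralizer ((Q : Subgroup G) : Set G), c • x.1 = z.1) → x = z := by
    rintro ⟨x, hx⟩ ⟨z, hz⟩ ⟨c, hc, e⟩
    apply Subtype.ext
    show x = z
    have e' : c • x = z := e
    rw [← e']
    obtain ⟨g, rfl⟩ := QuotientGroup.mk_surjective x
    obtain ⟨k, hk, hn⟩ := exists_conj Q hQH ((fixed_iff _ _ g).1 hx)
    have h1 : ((g * k : G) : G ⧸ H) = (g : G ⧸ H) := by
      rw [eq_comm, QuotientGroup.eq, ← mul_assoc, inv_mul_cancel, one_mul]
      exact hk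
    rw [← h1]
    show ((g * k : G) : G ⧸ H) = ((c * (g * k) : G) : G ⧸ H)
    rw [QuotientGroup.eq]
    apply hCQ
    rw [mem_centralizer_iff]
    intro x hx
    have h2 : (g * k) * x * (g * k)⁻¹ ∈ (Q : Subgroup G) := (mem_normalizer_iff.1 hn x).1 hx
    have h3 := mem_centralizer_iff.1 hc _ h2
    calc x * ((g * k)⁻¹ * (c * (g * k))) = (g * k)⁻¹ * ((g * k) * x * (g * k)⁻¹ * c) * (g * k) := by group
      _ = (g * k)⁻¹ * (c * ((g * k) * x * (g * k)⁻¹)) * (g * k) := by rw [h3]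
      _ = (g * k)⁻¹ * (c * (g * k)) * x := by group
  have hcnt : cnt (Q : Subgroup G) (G ⧸ H) = Nat.card {x : G ⧸ H // ∀ g ∈ (Q : Subgroup G), g • x = x} := by
    unfold cnt
    symm
    refine Nat.card_congr (Equiv.ofBijective (Quot.mk _) ⟨?_, Quot.mk_surjective⟩)
    intro x z h
    exact hrel x z ((quot_eq_iff x z).1 h)
  have hfix : Nat.card {x : G ⧸ H // ∀ g ∈ (Q : Subgroup G), g • x = x} =
      Nat.card (MulAction.fixedPoints (Q : Subgroup G) (G ⧸ H)) := by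
    refine Nat.card_congr (Equiv.subtypeEquivRight fun x => ?_)
    rw [MulAction.mem_fixedPoints]
    constructor
    · rintro h ⟨g, hg⟩
      exact h g hg
    · intro h g hg
      exact h ⟨g, hg⟩
  rw [hcnt, hfix]
  exact (Q.isPGroup'.card_modEq_card_fixedPoints (G ⧸ H)).symm

/-- **the number `cnt` modulo `p`** -/
theorem cnt_modEq_index {G : Type u} [Group G] [Finite G] {p : ℕ} [hp : Fact p.Prime]
    (hab : ∀ Q : Sylow p G, ∀ a ∈ (Q : Subgroup G), ∀ b ∈ (Q : Subgroup G), a * b = b * a) {H : Subgroup G} {y : G}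
    (hy : y ^ p = 1) (hC : centralizer ({y} : Set G) ≤ H) (P : Sylow p G) :
    cnt (P : Subgroup G) (G ⧸ H) ≡ H.index [MOD p] := by
  refine cnt_modEq_index_sub hab (A := zpowers y) (fun g => ⟨1, ?_⟩)
    ((centralizer_le (Set.singleton_subset_iff.2 (mem_zpowers y))).trans hC) P
  obtain ⟨k, hk⟩ := Subgroup.mem_zpowers_iff.1 g.2
  apply Subtype.ext
  rw [Subgroup.coe_pow, ← hk, pow_one, ← zpow_natCast, zpow_comm, zpow_natCast, hy, one_zpow]
  rfl

section E7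

variable {F : Type u} [Field F] [Fintype F] {p : ℕ} [hp : Fact p.Prime]

/-- the index of `P₇` modulo `p` -/
theorem index_P7 (hq : orderOf ((Fintype.card F : ℕ) : ZMod p) = 3) :
    (Pa hpE7 F {0, 1, 2, 3, 4, 5}).index ≡ 2 [MOD p] := by
  have h := d7_E6 F
  unfold Deg dE7 at h
  simp only [pr_cons, pr_nil, mul_one] at h
  set q := Fintype.card F with hqdef
  have hq1 : 1 < q := Fintype.one_lt_card
  set N := (Pa hpE7 F {0, 1, 2, 3, 4, 5}).index with hN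
  have hpos : ∀ k : ℕ, k ≠ 0 → 1 ≤ q ^ k := fun k _ => Nat.one_le_pow _ _ (by omega)
  have hpos' : ∀ k : ℕ, k ≠ 0 → q ^ k - 1 ≠ 0 := fun k hk => by
    have := Nat.one_lt_pow hk hq1
    omega
  have h1 : (N : ℤ) * (q - 1) = (q ^ 5 + 1) * (q ^ 14 - 1) * (q ^ 9 + 1) := by
    have h2 := congrArg (fun n : ℕ => (n : ℤ)) h
    simp only [Nat.cast_mul, Nat.cast_sub (hpos _ (by norm_num : (2 : ℕ) ≠ 0)),
      Nat.cast_sub (hpos _ (by norm_num : (1 : ℕ) ≠ 0)), Nat.cast_sub (hpos _ (by norm_num : (5 : ℕ) ≠ 0)),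
      Nat.cast_sub (hpos _ (by norm_num : (6 : ℕ) ≠ 0)), Nat.cast_sub (hpos _ (by norm_num : (8 : ℕ) ≠ 0)),
      Nat.cast_sub (hpos _ (by norm_num : (9 : ℕ) ≠ 0)), Nat.cast_sub (hpos _ (by norm_num : (12 : ℕ) ≠ 0)),
      Nat.cast_sub (hpos _ (by norm_num : (10 : ℕ) ≠ 0)), Nat.cast_sub (hpos _ (by norm_num : (14 : ℕ) ≠ 0)),
      Nat.cast_sub (hpos _ (by norm_num : (18 : ℕ) ≠ 0)), Nat.cast_pow, Nat.cast_one] at h2
    have hz : ∀ k : ℕ, k ≠ 0 → ((q : ℤ) ^ k - 1) ≠ 0 := fun k hk => by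
      have := hpos' k hk
      have h3 : ((q ^ k - 1 : ℕ) : ℤ) ≠ 0 := by exact_mod_cast this
      rwa [Nat.cast_sub (hpos k hk), Nat.cast_pow, Nat.cast_one] at h3
    have h4 : ((q : ℤ) ^ 2 - 1) * (((q : ℤ) ^ 5 - 1) * (((q : ℤ) ^ 6 - 1) * (((q : ℤ) ^ 8 - 1) * (((q : ℤ) ^ 9 - 1) *
        ((q : ℤ) ^ 12 - 1))))) ≠ 0 :=
      mul_ne_zero (hz _ (by norm_num)) (mul_ne_zero (hz _ (by norm_num)) (mul_ne_zero (hz _ (by norm_num))
        (mul_ne_zero (hz _ (by norm_num)) (mul_ne_zero (hz _ (by norm_num)) (hz _ (by norm_num))))))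
    apply mul_left_cancel₀ h4
    linear_combination h2
  have h5 := congrArg (fun n : ℤ => (n : ZMod p)) h1
  push_cast at h5
  set x : ZMod p := ((q : ℕ) : ZMod p) with hx
  have hx3 : x ^ 3 = 1 := by rw [← hq]; exact pow_orderOf_eq_one _
  have hx1 : x - 1 ≠ 0 := by
    intro h0
    have : orderOf x = 1 := orderOf_eq_one_iff.2 (sub_eq_zero.1 h0)
    omega
  have hx2 : x ^ 2 + x + 1 = 0 := by
    have h6 : (x - 1) * (x ^ 2 + x + 1) = 0 := by linear_combination hx3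
    exact (mul_eq_zero.1 h6).resolve_left hx1
  have h7 : ((N : ℕ) : ZMod p) = ((2 : ℕ) : ZMod p) := by
    apply mul_right_cancel₀ hx1
    rw [h5]
    have e5 : x ^ 5 = x ^ 2 := by linear_combination x ^ 2 * hx3
    have e14 : x ^ 14 = x ^ 2 := by linear_combination (x ^ 11 + x ^ 8 + x ^ 5 + x ^ 2) * hx3
    have e9 : x ^ 9 = 1 := by linear_combination (x ^ 6 + x ^ 3 + 1) * hx3
    rw [e5, e14, e9]
    push_cast
    linear_combination 2 * x * hx3
  exact (ZMod.natCast_eq_natCast_iff _ _ _).1 h7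

/-- the Sylow subgroups are abelian -/
theorem abel_E7 (h11 : 11 ≤ p) (hpF : (p : F) ≠ 0) (hG : p ∣ Nat.card ↥(chevE7.group F))
    (Q : Sylow p ↥(chevE7.group F)) : ∀ a ∈ (Q : Subgroup ↥(chevE7.group F)), ∀ b ∈ (Q : Subgroup ↥(chevE7.group F)),
      a * b = b * a := by
  intro a ha b hb
  have hpq : ¬ p ∣ Fintype.card F := H116.RatB0.not_dvd_card hpF
  obtain ⟨e⟩ := Cfsg.Agent.S2378.result (F := F) rfl (chevE7, [2, 6, 8, 10, 12, 14, 18]) (by simp) p hpq (by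
    intro h
    have h1 : p ∣ 2 ^ 10 * 3 ^ 4 * 5 * 7 := by
      have : ([2, 6, 8, 10, 12, 14, 18] : List ℕ).prod = 2 ^ 10 * 3 ^ 4 * 5 * 7 := by norm_num
      rw [← this]
      exact h
    rcases (hp.out.dvd_mul).1 h1 with h1 | h1
    · rcases (hp.out.dvd_mul).1 h1 with h1 | h1
      · rcases (hp.out.dvd_mul).1 h1 with h1 | h1
        · have := Nat.le_of_dvd (by norm_num) (hp.out.dvd_of_dvd_pow h1)
          omega
        · have := Nat.le_of_dvd (by norm_num) (hp.out.dvd_of_dvd_pow h1)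
          omega
      · have := Nat.le_of_dvd (by norm_num) h1
        omega
    · have := Nat.le_of_dvd (by norm_num) h1
      omega) hG Q
  have h1 : (⟨a, ha⟩ * ⟨b, hb⟩ : ↥(Q : Subgroup ↥(chevE7.group F))) = ⟨b, hb⟩ * ⟨a, ha⟩ := by
    apply e.injective
    rw [map_mul, map_mul, mul_comm]
  exact congrArg Subtype.val h1

/-- **`E₇(q)`, `ord_p(q) = 3`** -/
theorem cnt_P7 (h11 : 11 ≤ p) (hpF : (p : F) ≠ 0) (hq : orderOf ((Fintype.card F : ℕ) : ZMod p) = 3)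
    {y : ↥(chevE7.group F)} (hy : y ^ p = 1) (hy1 : y ≠ 1)
    (hC : centralizer ({y} : Set ↥(chevE7.group F)) ≤ Pa hpE7 F {0, 1, 2, 3, 4, 5}) (P : Sylow p ↥(chevE7.group F)) :
    ((cnt (P : Subgroup ↥(chevE7.group F)) (↥(chevE7.group F) ⧸ Pa hpE7 F {0, 1, 2, 3, 4, 5}) : ℕ) : ℤ) ≡ 2 [ZMOD p] := by
  have hG : p ∣ Nat.card ↥(chevE7.group F) := by
    have h1 : orderOf y = p := orderOf_eq_prime hy hy1
    rw [← h1]
    exact orderOf_dvd_natCard y
  have h1 := (cnt_modEq_index (abel_E7 h11 hpF hG) hy hC P).trans (index_P7 hq)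
  exact_mod_cast (Int.natCast_modEq_iff).2 h1

/-- the form of helper214 -/
theorem hcnt_of (h11 : 11 ≤ p) (hpF : (p : F) ≠ 0) (hq : orderOf ((Fintype.card F : ℕ) : ZMod p) = 3)
    (h : ∃ y : ↥(chevE7.group F), y ^ p = 1 ∧ y ≠ 1 ∧
      Subgroup.centralizer ({y} : Set ↥(chevE7.group F)) ≤ Pa hpE7 F {0, 1, 2, 3, 4, 5}) :
    ∀ P : Sylow p ↥(chevE7.group F),
      ((cnt (P : Subgroup ↥(chevE7.group F)) (↥(chevE7.group F) ⧸ Pa hpE7 F {0, 1, 2, 3, 4, 5}) : ℕ) : ℤ) ≡ 2 [ZMOD p] := by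
  obtain ⟨y, h1, h2, h3⟩ := h
  exact cnt_P7 h11 hpF hq h1 h2 h3

/-- the form with a subgroup -/
theorem hcnt_of_sub (h11 : 11 ≤ p) (hpF : (p : F) ≠ 0) (hq : orderOf ((Fintype.card F : ℕ) : ZMod p) = 3)
    (h : ∃ A : Subgroup ↥(chevE7.group F), IsPGroup p A ∧
      Subgroup.centralizer (A : Set ↥(chevE7.group F)) ≤ Pa hpE7 F {0, 1, 2, 3, 4, 5}) :
    ∀ P : Sylow p ↥(chevE7.group F),
      ((cnt (P : Subgroup ↥(chevE7.group F)) (↥(chevE7.group F) ⧸ Pa hpE7 F {0, 1, 2, 3, 4, 5}) : ℕ) : ℤ) ≡ 2 [ZMOD p] := by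
  obtain ⟨A, hA, hC⟩ := h
  intro P
  have hG : p ∣ Nat.card ↥(chevE7.group F) := by
    by_contra hG
    have h1 : A = ⊥ := by
      rw [Subgroup.eq_bot_iff_card]
      obtain ⟨k, hk⟩ := IsPGroup.iff_card.1 hA
      rcases k with _ | k
      · rw [hk, pow_zero]
      · exact absurd ((dvd_pow_self p (Nat.succ_ne_zero k)).trans (hk ▸ Subgroup.card_subgroup_dvd_card A)) hG
    subst h1
    have h2 : Pa hpE7 F {0, 1, 2, 3, 4, 5} = ⊤ := by
      rw [eq_top_iff]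
      refine le_trans ?_ hC
      intro g _
      rw [Subgroup.mem_centralizer_iff]
      intro x hx
      rw [Subgroup.coe_bot, Set.mem_singleton_iff] at hx
      rw [hx, one_mul, mul_one]
    have h3 := index_P7 (F := F) (p := p) hq
    rw [h2, Subgroup.index_top] at h3
    have h4 := (Nat.modEq_iff_dvd' (by norm_num : 1 ≤ 2)).1 h3
    have := Nat.le_of_dvd (by norm_num) h4
    omega
  have h1 := (cnt_modEq_index_sub (abel_E7 h11 hpF hG) hA hC P).trans (index_P7 hq)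
  exact_mod_cast (Int.natCast_modEq_iff).2 h1

end E7

end Cfsg.Agent.H710.XZ
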